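import Mathlib

/-!
# Trivial fibrations of simplicial sets are homotopy equivalences
-/

set_option autoImplicit false
set_option backward.isDefEq.respectTransparency false

universe u

open CategoryTheory Opposite Simplicial MonoidalCategory CartesianMonoidalCategory

namespace Groth.Agent.TrivFibHtpy

variable {X Y : SSet.{u}}

/-- The two ends of the cylinder. -/
def ends (X : SSet.{u}) : (X ⊗ Δ[1] : SSet.{u}).Subcomplex where
  obj m := Set.ofPred fun z => z.2 = SSet.stdSimplex.const 1 0 m ∨ z.2 = SSet.stdSimplex.const 1 1 m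
  map {m m'} g z hz := by
    rcases hz with h | h
    · left
      show (Δ[1] : SSet.{u}).map g z.2 = _
      rw [h]; rfl
    · right
      show (Δ[1] : SSet.{u}).map g z.2 = _
      rw [h]; rfl

theorem const_ne (m : SimplexCategoryᵒᵖ) :
    (SSet.stdSimplex.const 1 1 m : (Δ[1] : SSet.{u}).obj m) ≠ SSet.stdSimplex.const 1 0 m := fun h => by
  have := congrArg (fun z : (Δ[1] : SSet.{u}).obj m => z.down.toOrderHom 0) h
  simp at this

open Classical in
/-- A map on the two ends given by a pair of maps. -/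
noncomputable def glue (a b : X ⟶ Y) : (ends X : SSet.{u}) ⟶ Y where
  app m := ↾fun z => if z.1.2 = SSet.stdSimplex.const 1 0 m then a.app m z.1.1 else b.app m z.1.1
  naturality {m m'} g := by
    apply ConcreteCategory.hom_ext
    intro z
    show (if ((X ⊗ Δ[1] : SSet.{u}).map g z.1).2 = _ then a.app m' ((X ⊗ Δ[1] : SSet.{u}).map g z.1).1
      else b.app m' ((X ⊗ Δ[1] : SSet.{u}).map g z.1).1) =
      Y.map g (if z.1.2 = _ then a.app m z.1.1 else b.app m z.1.1)
    have e1 : ((X ⊗ Δ[1] : SSet.{u}).map g z.1).1 = X.map g z.1.1 := rfl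
    have e2 : ((X ⊗ Δ[1] : SSet.{u}).map g z.1).2 = (Δ[1] : SSet.{u}).map g z.1.2 := rfl
    rw [e1, e2]
    rcases z.2 with h | h
    · rw [h, show (Δ[1] : SSet.{u}).map g (SSet.stdSimplex.const 1 0 m) = SSet.stdSimplex.const 1 0 m' from rfl,
        if_pos rfl, if_pos rfl]
      exact NatTrans.naturality_apply a g z.1.1
    · rw [h, show (Δ[1] : SSet.{u}).map g (SSet.stdSimplex.const 1 1 m) = SSet.stdSimplex.const 1 1 m' from rfl,
        if_neg (const_ne m), if_neg (const_ne m')]
      exact NatTrans.naturality_apply b g z.1.1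

theorem glue_left (a b : X ⟶ Y) (m : SimplexCategoryᵒᵖ) (z : (ends X : SSet.{u}).obj m)
    (h : z.1.2 = SSet.stdSimplex.const 1 0 m) : (glue a b).app m z = a.app m z.1.1 := by
  classical
  exact if_pos h

theorem glue_right (a b : X ⟶ Y) (m : SimplexCategoryᵒᵖ) (z : (ends X : SSet.{u}).obj m)
    (h : z.1.2 = SSet.stdSimplex.const 1 1 m) : (glue a b).app m z = b.app m z.1.1 := by
  classical
  exact if_neg (h ▸ const_ne m)

theorem ι₀_mem (m : SimplexCategoryᵒᵖ) (x : X.obj m) :
    (SSet.ι₀.app m x : (X ⊗ Δ[1] : SSet.{u}).obj m).2 = SSet.stdSimplex.const 1 0 m := rfl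

theorem ι₁_mem (m : SimplexCategoryᵒᵖ) (x : X.obj m) :
    (SSet.ι₁.app m x : (X ⊗ Δ[1] : SSet.{u}).obj m).2 = SSet.stdSimplex.const 1 1 m := rfl

/-- Maps with the same image under a trivial fibration are homotopic. -/
theorem nonempty_homotopy {Z : SSet.{u}} {f : Y ⟶ Z} (hf : SSet.modelCategoryQuillen.I.rlp f) {a b : X ⟶ Y}
    (hab : a ≫ f = b ≫ f) : Nonempty (SSet.Homotopy a b) := by
  rw [← SSet.rlp_monomorphisms] at hf
  haveI := hf _ (inferInstance : Mono (ends X).ι)
  have sq : CommSq (glue a b) (ends X).ι f (fst X Δ[1] ≫ a ≫ f) := ⟨by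
    apply NatTrans.ext
    ext m z
    rcases z.2 with h | h
    · show f.app m ((glue a b).app m z) = f.app m (a.app m z.1.1)
      rw [glue_left a b m z h]
    · show f.app m ((glue a b).app m z) = f.app m (a.app m z.1.1)
      rw [glue_right a b m z h]
      exact (ConcreteCategory.congr_hom (NatTrans.congr_app hab m) z.1.1).symm⟩
  refine ⟨{ h := sq.lift, h₀ := ?_, h₁ := ?_, rel := ?_ }⟩
  · apply NatTrans.ext
    ext m x
    exact (ConcreteCategory.congr_hom (NatTrans.congr_app sq.fac_left m)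
      (⟨SSet.ι₀.app m x, Or.inl (ι₀_mem m x)⟩ : (ends X : SSet.{u}).obj m)).trans
        ((glue_left a b m _ (ι₀_mem m x)).trans rfl)
  · apply NatTrans.ext
    ext m x
    exact (ConcreteCategory.congr_hom (NatTrans.congr_app sq.fac_left m)
      (⟨SSet.ι₁.app m x, Or.inr (ι₁_mem m x)⟩ : (ends X : SSet.{u}).obj m)).trans
        ((glue_right a b m _ (ι₁_mem m x)).trans rfl)
  · apply NatTrans.ext
    ext m z
    exact z.1.2.elim

theorem exists_section (f : X ⟶ Y) (hf : SSet.modelCategoryQuillen.I.rlp f) : ∃ g : Y ⟶ X, g ≫ f = 𝟙 Y := by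
  rw [← SSet.rlp_monomorphisms] at hf
  haveI := hf _ (inferInstance : Mono (⊥ : Y.Subcomplex).ι)
  have sq : CommSq (SSet.Subcomplex.isInitialBot.to X) (⊥ : Y.Subcomplex).ι f (𝟙 Y) :=
    ⟨SSet.Subcomplex.isInitialBot.hom_ext _ _⟩
  exact ⟨sq.lift, sq.fac_right⟩

end Groth.Agent.TrivFibHtpy
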